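import Mathlib
import Cfsg.Prelude.Def_LocalEven
import Cfsg.Agent.TwoFusion.SLTwoFacts

/-!
# Groups of Ree type from the isomorphism type of an involution centralizer
-/

set_option autoImplicit false
set_option linter.style.haveILetI false

namespace Cfsg.Agent.H211.ReeTypeOf

open Subgroup Cfsg

/-- the centre of `PSL₂(F)` is trivial, in elementary form -/
theorem psl_center {F : Type*} [Field F] [Fintype F] (hF : 3 < Fintype.card F)
    (x : Matrix.ProjectiveSpecialLinearGroup (Fin 2) F) (hx : ∀ y, x * y = y * x) : x = 1 := by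
  have hs : IsSimpleGroup (Matrix.ProjectiveSpecialLinearGroup (Fin 2) F) :=
    Cfsg.Agent.TwoFusion.SLTwoFacts.isSimpleGroup_psl hF
  rcases (inferInstance : (center (Matrix.ProjectiveSpecialLinearGroup (Fin 2) F)).Normal).eq_bot_or_eq_top with h | h
  · have h1 : x ∈ center (Matrix.ProjectiveSpecialLinearGroup (Fin 2) F) := by
      rw [mem_center_iff]
      intro y
      exact (hx y).symm
    rw [h, mem_bot] at h1
    exact h1
  · exfalso
    have hperf : commutator (Matrix.ProjectiveSpecialLinearGroup (Fin 2) F) = ⊤ := by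
      have h1 := Cfsg.Agent.TwoFusion.SLTwoFacts.commutator_eq_top hF
      have h2 : (commutator (Matrix.SpecialLinearGroup (Fin 2) F)).map
          (QuotientGroup.mk' (center (Matrix.SpecialLinearGroup (Fin 2) F))) =
          commutator (Matrix.ProjectiveSpecialLinearGroup (Fin 2) F) := by
        rw [commutator_def, commutator_def, map_commutator,
          map_top_of_surjective _ (QuotientGroup.mk'_surjective _)]
      rw [← h2, h1, map_top_of_surjective _ (QuotientGroup.mk'_surjective _)]
    have h3 : commutator (Matrix.ProjectiveSpecialLinearGroup (Fin 2) F) = ⊥ := by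
      rw [commutator_def, commutator_eq_bot_iff_le_centralizer]
      intro y _
      rw [mem_centralizer_iff]
      intro z _
      have : y ∈ center (Matrix.ProjectiveSpecialLinearGroup (Fin 2) F) := by rw [h]; trivial
      exact mem_center_iff.1 this z
    rw [h3] at hperf
    exact bot_ne_top hperf

theorem zmod2_cases (u a : Multiplicative (ZMod 2)) (ha : a ≠ 1) : u = 1 ∨ u = a := by
  revert u a
  decide

/-- **Groups of Ree type.** -/
theorem reeType_of {G : Type*} [Group G] [Finite G] [IsSimpleGroup G] (hna : ¬ IsMulCommutative G)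
    (hS : ∀ P : Sylow 2 G, ∀ a b : P, a * b = b * a) {t : G} (ht : orderOf t = 2)
    {F : Type} [Field F] [Fintype F] {m : ℕ} (hm : 1 ≤ m) (hF : Fintype.card F = 3 ^ (2 * m + 1))
    (e : centralizer ({t} : Set G) ≃*
      Multiplicative (ZMod 2) × Matrix.ProjectiveSpecialLinearGroup (Fin 2) F) :
    Cfsg.IsReeType G := by
  set C := centralizer ({t} : Set G) with hC
  have h27 : 3 < Fintype.card F := by
    rw [hF]
    calc 3 < 3 ^ 3 := by norm_num
      _ ≤ 3 ^ (2 * m + 1) := Nat.pow_le_pow_right (by norm_num) (by omega)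
  have htC : t ∈ C := by
    rw [hC, mem_centralizer_singleton_iff]
  have hcent : ∀ c : C, (⟨t, htC⟩ : C) * c = c * ⟨t, htC⟩ := by
    intro c
    apply Subtype.ext
    exact (mem_centralizer_singleton_iff.1 c.2).symm
  obtain ⟨a, b, hab⟩ : ∃ a b, e ⟨t, htC⟩ = (a, b) := ⟨_, _, rfl⟩
  have hb : b = 1 := by
    apply psl_center h27
    intro y
    have h1 := congrArg e (hcent (e.symm (1, y)))
    rw [map_mul, map_mul, hab, MulEquiv.apply_symm_apply] at h1
    exact congrArg Prod.snd h1
  subst hb
  have ha : a ≠ 1 := by
    rintro rfl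
    have h1 : e ⟨t, htC⟩ = 1 := hab
    rw [map_eq_one_iff e e.injective] at h1
    have h2 : t = 1 := congrArg Subtype.val h1
    rw [h2, orderOf_one] at ht
    omega
  let j : Matrix.ProjectiveSpecialLinearGroup (Fin 2) F →* G :=
    C.subtype.comp (e.symm.toMonoidHom.comp (MonoidHom.inr _ _))
  have hj : Function.Injective j := by
    intro x y hxy
    have h1 : e.symm (1, x) = e.symm (1, y) := Subtype.ext hxy
    have h2 := e.symm.injective h1
    exact congrArg Prod.snd h2
  refine ⟨inferInstance, hna, t, j.range, m, hm, ht, ?_, ?_, F, inferInstance, inferInstance, hF,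
    ⟨(MonoidHom.ofInjective hj).symm⟩⟩
  · -- odd index
    haveI : Fact (Nat.Prime 2) := ⟨Nat.prime_two⟩
    have hp : IsPGroup 2 (zpowers t) := IsPGroup.of_card (n := 1) (by rw [Nat.card_zpowers, ht]; rfl)
    obtain ⟨P, hP⟩ := hp.exists_le_sylow
    have hPC : (P : Subgroup G) ≤ C := by
      intro x hx
      rw [hC, mem_centralizer_singleton_iff]
      exact congrArg Subtype.val (hS P ⟨x, hx⟩ ⟨t, hP (mem_zpowers t)⟩)
    rw [← Nat.not_even_iff_odd, even_iff_two_dvd]
    intro h2
    exact P.not_dvd_index (h2.trans (index_dvd_of_le hPC))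
  · refine ⟨?_, ?_, ?_, ?_, ?_⟩
    · rw [zpowers_le]; exact htC
    · rintro _ ⟨x, rfl⟩
      exact (e.symm (1, x)).2
    · rintro _ ⟨k, rfl⟩ _ ⟨x, rfl⟩
      have h1 : Commute t (j x) := by
        have := hcent (e.symm (1, x))
        exact congrArg Subtype.val this
      exact (h1.zpow_left k).eq
    · rw [eq_bot_iff]
      rintro x ⟨⟨k, hk⟩, ⟨y, hy⟩⟩
      rw [mem_bot]
      have hk' : t ^ k = x := hk
      have hxC : x ∈ C := by rw [← hy]; exact (e.symm (1, y)).2
      have h1 : e ⟨x, hxC⟩ = (1, y) := by
        have : (⟨x, hxC⟩ : C) = e.symm (1, y) := Subtype.ext hy.symm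
        rw [this, MulEquiv.apply_symm_apply]
      have h2 : e ⟨x, hxC⟩ = (a ^ k, 1) := by
        have : (⟨x, hxC⟩ : C) = ⟨t, htC⟩ ^ k := Subtype.ext hk'.symm
        rw [this, map_zpow, hab]
        apply Prod.ext
        · rfl
        · change (1 : Matrix.ProjectiveSpecialLinearGroup (Fin 2) F) ^ k = 1
          rw [one_zpow]
      have h3 : e ⟨x, hxC⟩ = 1 := by
        apply Prod.ext
        · rw [h1]; rfl
        · rw [h2]; rfl
      rw [map_eq_one_iff e e.injective] at h3
      exact congrArg Subtype.val h3
    · apply le_antisymm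
      · rw [sup_le_iff]
        constructor
        · rw [zpowers_le]; exact htC
        · rintro _ ⟨x, rfl⟩
          exact (e.symm (1, x)).2
      · intro c hc
        obtain ⟨u, v, huv⟩ : ∃ u v, e ⟨c, hc⟩ = (u, v) := ⟨_, _, rfl⟩
        rcases zmod2_cases u a ha with h | h
        · have h1 : c = j v := by
            have h2 : (⟨c, hc⟩ : C) = e.symm (1, v) := by
              rw [← h, ← huv, MulEquiv.symm_apply_apply]
            exact congrArg Subtype.val h2
          rw [h1]
          exact mem_sup_right ⟨v, rfl⟩
        · have h1 : c = t * j v := by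
            have h2 : (⟨c, hc⟩ : C) = ⟨t, htC⟩ * e.symm (1, v) := by
              apply e.injective
              rw [map_mul, huv, hab, MulEquiv.apply_symm_apply, h]
              apply Prod.ext
              · exact (mul_one a).symm
              · exact (one_mul v).symm
            exact congrArg Subtype.val h2
          rw [h1]
          exact mul_mem (mem_sup_left (mem_zpowers t)) (mem_sup_right ⟨v, rfl⟩)

end Cfsg.Agent.H211.ReeTypeOf
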