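import Mathlib
import Cfsg.Prelude.Def_LocalEven
import Cfsg.Agent.Walter.Main
import Cfsg.Agent.Walter.StepAll
import Cfsg.Agent.S0343
import Cfsg.Agent.S1644
import Cfsg.Agent.S0252
import Cfsg.Agent.S0253
import Cfsg.Agent.StrongEmb.Strong
import Cfsg.Agent.S1169
import Cfsg.Agent.H502.SFourClosed
import Cfsg.Agent.H211.ReeTypeOf

/-!
# Simple groups without section `S₄` are Goldschmidt groups
-/

set_option autoImplicit false
set_option linter.style.haveILetI false

namespace Cfsg.Agent.H211.GoldList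

open Subgroup Cfsg

universe u

/-- `PSL₂(4) ≅ PSL₂(5) ≅ A₅` -/
theorem psl_four {G : Type*} [Group G] {F : Type} [Field F] [Fintype F] (hF : Fintype.card F = 4)
    (e : G ≃* Matrix.ProjectiveSpecialLinearGroup (Fin 2) F) : Cfsg.IsGoldschmidtGroup G := by
  obtain ⟨f⟩ := Cfsg.Agent.S0252.result hF
  haveI : Fact (Nat.Prime 5) := ⟨by norm_num⟩
  obtain ⟨g⟩ := Cfsg.Agent.S0253.result (F := ZMod 5) (ZMod.card 5)
  exact Or.inr (Or.inr (Or.inr (Or.inr (Or.inl ⟨ZMod 5, inferInstance, inferInstance, 5, ZMod.card 5, le_rfl,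
    Or.inr rfl, ⟨e.trans (f.trans g.symm)⟩⟩))))

theorem psl_even {G : Type*} [Group G] {F : Type} [Field F] [Fintype F] {n : ℕ} (hn : 2 ≤ n)
    (hF : Fintype.card F = 2 ^ n)
    (e : G ≃* Matrix.ProjectiveSpecialLinearGroup (Fin 2) F) : Cfsg.IsGoldschmidtGroup G := by
  rcases Nat.lt_or_ge n 3 with h | h
  · have : n = 2 := by omega
    subst this
    exact psl_four (by rw [hF]; norm_num) e
  · exact Or.inr (Or.inl ⟨F, inferInstance, inferInstance, n, h, hF, ⟨e⟩⟩)

/-- the abelian case -/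
theorem of_abelian {G : Type u} [Group G] [Finite G] [IsSimpleGroup G] (hna : ¬ IsMulCommutative G)
    (S : Sylow 2 G) (hS : IsMulCommutative (S : Subgroup G)) : Cfsg.IsGoldschmidtGroup G := by
  have hw := Cfsg.Agent.Walter.Main.wType_of_step Cfsg.Agent.Walter.StepAll.step G inferInstance hna S
    (Cfsg.Agent.Walter.Main.comm_of_isMulCommutative hS)
  have hall := Cfsg.Agent.Walter.Main.all_comm (Cfsg.Agent.Walter.Main.comm_of_isMulCommutative hS)
  rcases Cfsg.Agent.Walter.Main.centralizer_of_wType hw with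
    ⟨n, hn, F, i1, i2, hF, ⟨e⟩⟩ | ⟨F, i1, i2, hmod, h5, ⟨e⟩⟩ | ⟨F, i1, i2, hmod, h5, ⟨t, ht⟩, hc⟩
  · exact psl_even hn hF e
  · exact Or.inr (Or.inr (Or.inr (Or.inr (Or.inl ⟨F, i1, i2, _, rfl, h5, hmod, ⟨e⟩⟩))))
  · obtain ⟨e⟩ := hc t ht
    rcases Cfsg.Agent.S0343.result hall (by omega : 3 ≤ Fintype.card F) t ht ⟨e⟩ with
      ⟨m, hm, hF, -⟩ | ⟨hF, hJ⟩
    · exact Or.inl (ReeTypeOf.reeType_of hna hall ht hm hF e)
    · have h5' : Fintype.card F = 5 := by omega
      obtain ⟨f⟩ := Cfsg.Agent.S0253.result (F := F) h5'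
      have h8 : Nat.card S = 8 := by
        haveI : Fact (Nat.Prime 2) := ⟨Nat.prime_two⟩
        have h1 : Nat.card (S : Subgroup G) = 2 ^ (Nat.card G).factorization 2 := S.card_eq_multiplicity
        have h2 : (Nat.card G).factorization 2 = 3 := by
          rw [hJ.2]
          have : (175560 : ℕ) = 2 ^ 3 * 21945 := by norm_num
          rw [this, Nat.factorization_mul (by norm_num) (by norm_num), Nat.factorization_pow]
          have h3 : Nat.factorization 21945 2 = 0 := Nat.factorization_eq_zero_of_not_dvd (by norm_num)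
          have h4 : Nat.factorization 2 2 = 1 := Nat.prime_two.factorization_self
          simp [h3, h4]
        rw [h2] at h1
        exact h1
      exact Or.inr (Or.inr (Or.inr (Or.inr (Or.inr
        (Cfsg.Agent.S1644.result S hS h8 t ht (e.trans (MulEquiv.prodCongr (MulEquiv.refl _) f)))))))

/-- **Simple groups without section `S₄` are Goldschmidt groups.** -/
theorem of_free {G : Type u} [Group G] [Finite G] [IsSimpleGroup G] (hna : ¬ IsMulCommutative G)
    (h4 : ¬ Cfsg.Agent.Lib.Involves.Involves G (Equiv.Perm (Fin 4))) : Cfsg.IsGoldschmidtGroup G := by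
  obtain ⟨S⟩ : Nonempty (Sylow 2 G) := inferInstance
  by_cases hSbot : (S : Subgroup G) = ⊥
  · refine of_abelian hna S ?_
    rw [hSbot]
    infer_instance
  obtain ⟨A, hA1, hA2, hA3⟩ := Cfsg.Agent.H502.SFourClosed.exists_stronglyClosed h4 S hSbot
  rcases Cfsg.Agent.S1169.result S A hA1 hA2 hA3 with h | ⟨H, hH⟩
  · exact of_abelian hna S h
  · have hnc : ∃ a b : G, a * b ≠ b * a := by
      by_contra hcon
      push Not at hcon
      exact hna ⟨⟨hcon⟩⟩
    rcases Cfsg.Agent.StrongEmb.Strong.result hnc H hH with ⟨F, i1, i2, ⟨n, hn, hF⟩, ⟨e⟩⟩ | h |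
      ⟨F, i1, i2, n, hn, hF, ⟨e⟩⟩
    · exact psl_even hn hF e
    · exact Or.inr (Or.inr (Or.inl h))
    · refine Or.inr (Or.inr (Or.inr (Or.inl ⟨F, i1, i2, n, hn, ?_, ⟨e⟩⟩)))
      rw [hF, ← pow_mul, mul_comm n 2, pow_mul]
      norm_num

end Cfsg.Agent.H211.GoldList
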