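import Mathlib.GroupTheory.Sylow
import Mathlib.GroupTheory.SpecificGroups.Alternating
import Mathlib.Tactic
import Cfsg.Agent.Lib.Involves
import Cfsg.Agent.H460.QdAlt

/-!
# Groups in which the normalisers of the nontrivial `p`-subgroups have a normal Sylow `p`-subgroup

Such a group does not involve a group `Y` with a nontrivial normal `p`-subgroup and a non-normal Sylow
`p`-subgroup. In particular (`p = 2`) the symmetric group of degree 4 is not involved in a group with
trivially intersecting Sylow 2-subgroups, nor in a group with abelian Sylow 2-subgroups; groups of order prime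
to 3 involve neither `S₃` nor `S₄`.
-/

set_option autoImplicit false

namespace Cfsg.Agent.H211.TIFree

open Cfsg.Agent.Lib.Involves

/-- A group `Y` with a nontrivial normal `p`-subgroup and non-normal Sylow `p`-subgroup is not a section of a finite
group in which the normalizer of every nontrivial `p`-subgroup has a normal Sylow `p`-subgroup -/
theorem not_involves_of_normalizers {p : ℕ} [Fact p.Prime] {G Y : Type*} [Group G] [Finite G] [Group Y]
    (T : Subgroup Y) (hTn : T.Normal) (hTp : IsPGroup p T) (hT1 : T ≠ ⊥)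
    (hY : ∀ P : Sylow p Y, ¬ (P : Subgroup Y).Normal)
    (h : ∀ Q : Subgroup G, IsPGroup p Q → Q ≠ ⊥ →
      Subsingleton (Sylow p (Subgroup.normalizer (Q : Set G)))) :
    ¬ Lib.Involves.Involves G Y := by
  rintro ⟨K, f, hf⟩
  haveI hfin : Finite Y := Finite.of_surjective f hf
  -- a Sylow `p`-subgroup of the preimage of `T`
  set M : Subgroup K := Subgroup.comap f T with hM
  haveI hMn : M.Normal := hTn.comap f
  obtain ⟨S⟩ : Nonempty (Sylow p M) := inferInstance
  set S0 : Subgroup K := (S : Subgroup M).map M.subtype with hS0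
  have hSM : S0 ≤ M := Subgroup.map_subtype_le _
  -- `S0` maps onto `T`
  have hSp : IsPGroup p S0 := S.isPGroup'.map _
  have hST : S0.map f = T := by
    let g : M →* T := f.subgroupComap T
    have hg : Function.Surjective g := by
      rintro ⟨y, hy⟩
      obtain ⟨x, hx⟩ := hf y
      refine ⟨⟨x, ?_⟩, ?_⟩
      · rw [hM, Subgroup.mem_comap, hx]
        exact hy
      · apply Subtype.ext
        exact hx
    have h1 : ((S.mapSurjective hg : Sylow p T) : Subgroup T) = ⊤ := by
      obtain ⟨Q⟩ : Nonempty (Sylow p T) := inferInstance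
      have h2 : IsPGroup p (⊤ : Subgroup T) := hTp.to_subgroup _
      exact ((S.mapSurjective hg).3 h2 le_top).symm
    have h2 : (S : Subgroup M).map g = ⊤ := h1
    apply le_antisymm
    · rintro _ ⟨x, hx, rfl⟩
      exact hSM hx
    · intro y hy
      have h3 : (⟨y, hy⟩ : T) ∈ (S : Subgroup M).map g := by rw [h2]; trivial
      obtain ⟨x, hx, hxy⟩ := h3
      exact ⟨x.1, ⟨x, hx, rfl⟩, congrArg Subtype.val hxy⟩
  have hS0ne : S0 ≠ ⊥ := by
    intro h0
    apply hT1
    rw [← hST, h0, Subgroup.map_bot]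
  -- Frattini
  have hF : Subgroup.normalizer (S0 : Set K) ⊔ M = ⊤ := Sylow.normalizer_sup_eq_top S
  set N := Subgroup.normalizer (S0 : Set K) with hN
  have hfN : ∀ y, ∃ x : N, f x = y := by
    intro y
    obtain ⟨k, rfl⟩ := hf y
    have hk : k ∈ (M ⊔ N : Subgroup K) := by
      rw [sup_comm, hF]; trivial
    obtain ⟨m, hm, n, hn, rfl⟩ := Subgroup.mem_sup_of_normal_left.1 hk
    have h1 : f m ∈ S0.map f := by rw [hST]; exact hm
    obtain ⟨s, hs, hsm⟩ := h1
    refine ⟨⟨s * n, N.mul_mem (Subgroup.le_normalizer hs) hn⟩, ?_⟩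
    rw [map_mul, map_mul, hsm]
  -- the map from the normalizer in `G`
  have hsub : Subsingleton (Sylow p N) := by
    let Q : Subgroup G := S0.map K.subtype
    have hQ : IsPGroup p Q := hSp.map _
    have hQne : Q ≠ ⊥ := by
      intro h0
      apply hS0ne
      exact (Subgroup.map_eq_bot_iff_of_injective _ K.subtype_injective).1 h0
    have h1 := h Q hQ hQne
    let j : N →* Subgroup.normalizer (Q : Set G) :=
      { toFun := fun x => ⟨x.1.1, by
          have hx : ∀ s : K, s ∈ S0 ↔ x.1 * s * x.1⁻¹ ∈ S0 :=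
            Subgroup.mem_normalizer_iff.1 x.2
          rw [Subgroup.mem_normalizer_iff]
          intro g
          constructor
          · rintro ⟨s, hs, rfl⟩
            exact ⟨x.1 * s * x.1⁻¹, (hx s).1 hs, rfl⟩
          · rintro ⟨s, hs, hsg⟩
            refine ⟨x.1⁻¹ * s * x.1, ?_, ?_⟩
            · change x.1⁻¹ * s * x.1 ∈ S0
              rw [hx]
              have : x.1 * (x.1⁻¹ * s * x.1) * x.1⁻¹ = s := by group
              rw [this]; exact hs
            · change (x.1 : G)⁻¹ * (s : G) * x.1 = g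
              have hsg' : (s : G) = x.1 * g * (x.1 : G)⁻¹ := hsg
              rw [hsg']; group⟩
        map_one' := rfl
        map_mul' := fun _ _ => rfl }
    have hj : Function.Injective j := by
      intro x y hxy
      have h2 : (x.1.1 : G) = y.1.1 := congrArg (fun z : Subgroup.normalizer (Q : Set G) => z.1) hxy
      exact Subtype.ext (Subtype.ext h2)
    obtain ⟨P⟩ : Nonempty (Sylow p (Subgroup.normalizer (Q : Set G))) := inferInstance
    have hall : ∀ R : Sylow p N, (R : Subgroup N) = (P : Subgroup _).comap j := by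
      intro R
      have hR : IsPGroup p ((R : Subgroup N).map j) := R.isPGroup'.map _
      obtain ⟨P', hP'⟩ := hR.exists_le_sylow
      have : P' = P := Subsingleton.elim _ _
      subst this
      have h3 : (R : Subgroup N) ≤ (P' : Subgroup _).comap j := Subgroup.map_le_iff_le_comap.1 hP'
      have h4 : IsPGroup p ((P' : Subgroup _).comap j) := P'.isPGroup'.comap_of_injective j hj
      exact (R.3 h4 h3).symm
    refine ⟨fun R R' => ?_⟩
    apply Sylow.ext
    rw [hall R, hall R']
  obtain ⟨R⟩ : Nonempty (Sylow p N) := inferInstance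
  have hRn : (R : Subgroup N).Normal := Sylow.normal_of_subsingleton R
  let g : N →* Y := f.comp N.subtype
  have hg : Function.Surjective g := fun y => by
    obtain ⟨x, hx⟩ := hfN y
    exact ⟨x, hx⟩
  apply hY (R.mapSurjective hg)
  have : ((R.mapSurjective hg : Sylow p _) : Subgroup Y) = (R : Subgroup N).map g := rfl
  rw [this]
  exact hRn.map g hg

/-- If distinct Sylow `p`-subgroups intersect trivially, the normalizer of a nontrivial `p`-subgroup has just one Sylow
`p`-subgroup. -/
theorem subsingleton_of_ti {p : ℕ} [Fact p.Prime] {G : Type*} [Group G] [Finite G]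
    (h : ∀ P Q : Sylow p G, (P : Subgroup G) ⊓ (Q : Subgroup G) ≠ ⊥ → P = Q)
    (Q : Subgroup G) (hQ : IsPGroup p Q) (hQne : Q ≠ ⊥) :
    Subsingleton (Sylow p (Subgroup.normalizer (Q : Set G))) := by
  set N := Subgroup.normalizer (Q : Set G) with hN
  obtain ⟨P, hP⟩ := hQ.exists_le_sylow
  have hall : ∀ R : Sylow p N, (R : Subgroup N) = (P : Subgroup G).comap N.subtype := by
    intro R
    let Q' : Subgroup N := Q.subgroupOf N
    have hQ'n : Q'.Normal := Subgroup.normal_in_normalizer
    have hQ'p : IsPGroup p Q' := hQ.comap_of_injective _ N.subtype_injective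
    have hle : Q' ≤ R := by
      have h1 : IsPGroup p (Q' ⊔ (R : Subgroup N) : Subgroup N) := hQ'p.to_sup_of_normal_left R.isPGroup'
      rw [← R.3 h1 le_sup_right]
      exact le_sup_left
    have hR : IsPGroup p ((R : Subgroup N).map N.subtype) := R.isPGroup'.map _
    obtain ⟨P', hP'⟩ := hR.exists_le_sylow
    have hPP : P' = P := by
      apply h
      intro h0
      apply hQne
      rw [eq_bot_iff, ← h0]
      refine le_inf ?_ hP
      refine le_trans ?_ hP'
      intro x hx
      have hxN : x ∈ N := Subgroup.le_normalizer hx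
      exact ⟨⟨x, hxN⟩, hle hx, rfl⟩
    subst hPP
    have h3 : (R : Subgroup N) ≤ (P' : Subgroup _).comap N.subtype := Subgroup.map_le_iff_le_comap.1 hP'
    have h4 : IsPGroup p ((P' : Subgroup _).comap N.subtype) :=
      P'.isPGroup'.comap_of_injective _ N.subtype_injective
    exact (R.3 h4 h3).symm
  refine ⟨fun R R' => ?_⟩
  apply Sylow.ext
  rw [hall R, hall R']

/-! ### The symmetric group of degree 4 -/

theorem not_sylow_two_normal (P : Sylow 2 (Equiv.Perm (Fin 4))) :
    ¬ (P : Subgroup (Equiv.Perm (Fin 4))).Normal := by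
  intro hn
  have hall : ∀ x : Equiv.Perm (Fin 4), x * x = 1 → x ∈ (P : Subgroup _) := by
    intro x hx
    have h1 : IsPGroup 2 (Subgroup.zpowers x) := by
      rw [IsPGroup.iff_card]
      have : orderOf x ∣ 2 := orderOf_dvd_of_pow_eq_one (by rw [pow_two]; exact hx)
      rcases (Nat.dvd_prime Nat.prime_two).1 this with h | h
      · exact ⟨0, by rw [Nat.card_zpowers, h]; rfl⟩
      · exact ⟨1, by rw [Nat.card_zpowers, h]; rfl⟩
    obtain ⟨Q, hQ⟩ := h1.exists_le_sylow
    have : Q = P := by
      haveI := Sylow.unique_of_normal P hn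
      exact Subsingleton.elim _ _
    rw [← this]
    exact hQ (Subgroup.mem_zpowers _)
  have h3 : Equiv.swap (0 : Fin 4) 1 * Equiv.swap (1 : Fin 4) 2 ∈ (P : Subgroup (Equiv.Perm (Fin 4))) :=
    (P : Subgroup (Equiv.Perm (Fin 4))).mul_mem (hall (Equiv.swap (0 : Fin 4) 1) (by decide))
      (hall (Equiv.swap (1 : Fin 4) 2) (by decide))
  obtain ⟨k, hk⟩ := P.isPGroup' ⟨_, h3⟩
  have h4 : (Equiv.swap (0 : Fin 4) 1 * Equiv.swap (1 : Fin 4) 2) ^ (2 ^ k) = 1 := congrArg Subtype.val hk
  have h5 : (Equiv.swap (0 : Fin 4) 1 * Equiv.swap (1 : Fin 4) 2) ^ 3 = 1 := by decide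
  have h6 : (Equiv.swap (0 : Fin 4) 1 * Equiv.swap (1 : Fin 4) 2) ≠ 1 := by decide
  have h7 := orderOf_dvd_of_pow_eq_one h4
  have h8 := orderOf_dvd_of_pow_eq_one h5
  have h9 : orderOf (Equiv.swap (0 : Fin 4) 1 * Equiv.swap (1 : Fin 4) 2) ∣ Nat.gcd (2 ^ k) 3 := Nat.dvd_gcd h7 h8
  have h10 : Nat.gcd (2 ^ k) 3 = 1 := Nat.Coprime.pow_left _ (by norm_num)
  rw [h10, Nat.dvd_one, orderOf_eq_one_iff] at h9
  exact h6 h9

/-- the normal four-group of `S₄` -/
def V4 : Subgroup (Equiv.Perm (Fin 4)) where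
  carrier := {1, Equiv.swap 0 1 * Equiv.swap 2 3, Equiv.swap 0 2 * Equiv.swap 1 3, Equiv.swap 0 3 * Equiv.swap 1 2}
  one_mem' := by simp
  mul_mem' := by
    intro a b ha hb
    simp only [Set.mem_insert_iff, Set.mem_singleton_iff] at ha hb ⊢
    revert ha hb
    revert a b
    decide
  inv_mem' := by
    intro a ha
    simp only [Set.mem_insert_iff, Set.mem_singleton_iff] at ha ⊢
    revert ha
    revert a
    decide

theorem mem_V4 {x : Equiv.Perm (Fin 4)} : x ∈ V4 ↔ x = 1 ∨ x = Equiv.swap 0 1 * Equiv.swap 2 3 ∨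
    x = Equiv.swap 0 2 * Equiv.swap 1 3 ∨ x = Equiv.swap 0 3 * Equiv.swap 1 2 := Iff.rfl

theorem V4_normal : V4.Normal := by
  constructor
  intro n hn g
  rw [mem_V4] at hn ⊢
  revert hn
  revert n g
  decide

theorem V4_isPGroup : IsPGroup 2 V4 := by
  intro ⟨x, hx⟩
  refine ⟨1, ?_⟩
  apply Subtype.ext
  change x ^ (2 ^ 1) = 1
  rw [mem_V4] at hx
  revert hx
  revert x
  decide

theorem V4_ne_bot : V4 ≠ ⊥ := by
  intro h
  have h1 : Equiv.swap 0 1 * Equiv.swap 2 3 ∈ V4 := by
    rw [mem_V4]; tauto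
  rw [h, Subgroup.mem_bot] at h1
  revert h1
  decide

/-- the symmetric group of degree 4 is not involved in a group in which the normalizers of the nontrivial 2-subgroups
have a normal Sylow 2-subgroup -/
theorem not_involves_sfour_of_normalizers {G : Type*} [Group G] [Finite G]
    (h : ∀ Q : Subgroup G, IsPGroup 2 Q → Q ≠ ⊥ →
      Subsingleton (Sylow 2 (Subgroup.normalizer (Q : Set G)))) :
    ¬ Lib.Involves.Involves G (Equiv.Perm (Fin 4)) :=
  not_involves_of_normalizers V4 V4_normal V4_isPGroup V4_ne_bot not_sylow_two_normal h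

/-- the symmetric group of degree 4 is not involved in a group with trivially intersecting Sylow 2-subgroups -/
theorem not_involves_sfour_of_ti {G : Type*} [Group G] [Finite G]
    (h : ∀ P Q : Sylow 2 G, (P : Subgroup G) ⊓ (Q : Subgroup G) ≠ ⊥ → P = Q) :
    ¬ Lib.Involves.Involves G (Equiv.Perm (Fin 4)) :=
  not_involves_sfour_of_normalizers (subsingleton_of_ti h)

/-- a dihedral subgroup of order 8 -/
def D8 : Subgroup (Equiv.Perm (Fin 4)) where
  carrier := {x | x = 1 ∨ x = Equiv.swap 0 1 * Equiv.swap 2 3 ∨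
    x = Equiv.swap 0 2 * Equiv.swap 1 3 ∨ x = Equiv.swap 0 3 * Equiv.swap 1 2 ∨ x = Equiv.swap 0 1 ∨ x = Equiv.swap 2 3 ∨
    x = Equiv.swap 0 1 * (Equiv.swap 0 2 * Equiv.swap 1 3) ∨ x = Equiv.swap 0 1 * (Equiv.swap 0 3 * Equiv.swap 1 2)}
  one_mem' := by simp
  mul_mem' := by
    intro a b ha hb
    simp only [Set.mem_ofPred_eq] at ha hb ⊢
    rcases ha with rfl | rfl | rfl | rfl | rfl | rfl | rfl | rfl <;>
    rcases hb with rfl | rfl | rfl | rfl | rfl | rfl | rfl | rfl <;> decide
  inv_mem' := by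
    intro a ha
    simp only [Set.mem_ofPred_eq] at ha ⊢
    revert ha
    revert a
    decide

theorem mem_D8 {x : Equiv.Perm (Fin 4)} : x ∈ D8 ↔ x = 1 ∨ x = Equiv.swap 0 1 * Equiv.swap 2 3 ∨
    x = Equiv.swap 0 2 * Equiv.swap 1 3 ∨ x = Equiv.swap 0 3 * Equiv.swap 1 2 ∨ x = Equiv.swap 0 1 ∨ x = Equiv.swap 2 3 ∨
    x = Equiv.swap 0 1 * (Equiv.swap 0 2 * Equiv.swap 1 3) ∨ x = Equiv.swap 0 1 * (Equiv.swap 0 3 * Equiv.swap 1 2) :=
  Iff.rfl

theorem D8_isPGroup : IsPGroup 2 D8 := by
  intro ⟨x, hx⟩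
  refine ⟨2, ?_⟩
  apply Subtype.ext
  change x ^ (2 ^ 2) = 1
  rw [mem_D8] at hx
  revert hx
  revert x
  decide

/-- the symmetric group of degree 4 is not involved in a group with abelian 2-subgroups -/
theorem not_involves_sfour_of_comm {G : Type*} [Group G] [Finite G]
    (h : ∀ P : Subgroup G, IsPGroup 2 P → ∀ x ∈ P, ∀ y ∈ P, x * y = y * x) :
    ¬ Lib.Involves.Involves G (Equiv.Perm (Fin 4)) := by
  intro hi
  have h1 := H460.QdAlt.comm_of_involves hi h D8 D8_isPGroup (Equiv.swap 0 1) (by rw [mem_D8]; tauto)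
    (Equiv.swap 0 2 * Equiv.swap 1 3) (by rw [mem_D8]; tauto)
  revert h1
  decide

/-- the symmetric group of degree 4 is not involved in a group with an abelian Sylow 2-subgroup -/
theorem not_involves_sfour_of_sylow {G : Type*} [Group G] [Finite G] (S : Sylow 2 G)
    (hS : ∀ x ∈ (S : Subgroup G), ∀ y ∈ (S : Subgroup G), x * y = y * x) :
    ¬ Lib.Involves.Involves G (Equiv.Perm (Fin 4)) := by
  apply not_involves_sfour_of_comm
  intro P hP x hx y hy
  obtain ⟨Q, hQ⟩ := hP.exists_le_sylow
  obtain ⟨g, hg⟩ := MulAction.exists_smul_eq G S Q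
  have hx' := hQ hx
  have hy' := hQ hy
  rw [← hg] at hx' hy'
  obtain ⟨a, ha, rfl⟩ := hx'
  obtain ⟨b, hb, rfl⟩ := hy'
  have h1 := hS a ha b hb
  change MulAut.conj g a * MulAut.conj g b = MulAut.conj g b * MulAut.conj g a
  rw [← map_mul, ← map_mul, h1]

/-! ### Order prime to 3 -/

theorem card_dvd_of_involves {G Y : Type*} [Group G] [Finite G] [Group Y] (h : Lib.Involves.Involves G Y) :
    Nat.card Y ∣ Nat.card G := by
  obtain ⟨K, f, hf⟩ := h
  exact (Subgroup.card_dvd_of_surjective f hf).trans (Subgroup.card_subgroup_dvd_card K)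

theorem not_involves_sfour_of_not_three_dvd {G : Type*} [Group G] [Finite G] (h : ¬ 3 ∣ Nat.card G) :
    ¬ Lib.Involves.Involves G (Equiv.Perm (Fin 4)) := by
  intro hi
  apply h
  refine Dvd.dvd.trans ?_ (card_dvd_of_involves hi)
  rw [Nat.card_eq_fintype_card, Fintype.card_perm, Fintype.card_fin]
  decide

theorem not_involves_sthree_of_not_three_dvd {G : Type*} [Group G] [Finite G] (h : ¬ 3 ∣ Nat.card G) :
    ¬ Lib.Involves.Involves G (Equiv.Perm (Fin 3)) := by
  intro hi
  apply h
  refine Dvd.dvd.trans ?_ (card_dvd_of_involves hi)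
  rw [Nat.card_eq_fintype_card, Fintype.card_perm, Fintype.card_fin]
  decide

/-- the notion of the statements -/
theorem involves_iff' {G Y : Type*} [Group G] [Group Y] : Cfsg.Involves Y G ↔ Lib.Involves.Involves G Y :=
  involves_iff.symm

end Cfsg.Agent.H211.TIFree
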