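import Mathlib
import Cfsg.Prelude.Def_LocalEven
import Cfsg.Agent.Lib.Involves
import Cfsg.Agent.H96.TISylow
import Cfsg.Agent.S0276
import Cfsg.Agent.UGT.EndJ1.Data
import Cfsg.Agent.OddCyclic.T1Socle
import Cfsg.Agent.H211.TIFree

/-!
# Goldschmidt groups do not involve the symmetric group of degree 4
-/

set_option autoImplicit false
set_option linter.style.haveILetI false

namespace Cfsg.Agent.H211.GoldFree

open Cfsg.Agent.Lib.Involves Cfsg.Agent.H211.TIFree
open Matrix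

/-- an internal direct product is isomorphic to the external one -/
theorem nonempty_mulEquiv_prod {G : Type*} [Group G] {A B C : Subgroup G}
    (h : Cfsg.IsInternalDirectProduct A B C) : Nonempty (A × B ≃* C) := by
  obtain ⟨hA, hB, hc, hi, hs⟩ := h
  let f : A × B →* G := MonoidHom.noncommCoprod A.subtype B.subtype (fun a b => hc a a.2 b b.2)
  have hinj : Function.Injective f := by
    rw [injective_iff_map_eq_one]
    rintro ⟨a, b⟩ hab
    have h1 : (a : G) * (b : G) = 1 := hab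
    have h2 : (a : G) = (b : G)⁻¹ := eq_inv_of_mul_eq_one_left h1
    have h3 : (a : G) ∈ A ⊓ B := ⟨a.2, by rw [h2]; exact B.inv_mem b.2⟩
    rw [hi, Subgroup.mem_bot] at h3
    have h4 : (b : G) = 1 := by rw [h3, one_mul] at h1; exact h1
    exact Prod.ext (Subtype.ext h3) (Subtype.ext h4)
  have hr : f.range = C := by
    apply le_antisymm
    · rintro _ ⟨⟨a, b⟩, rfl⟩
      exact C.mul_mem (hA a.2) (hB b.2)
    · rw [← hs, sup_le_iff]
      constructor
      · intro a ha
        exact ⟨(⟨a, ha⟩, 1), by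
          change (a : G) * 1 = a
          rw [mul_one]⟩
      · intro b hb
        exact ⟨(1, ⟨b, hb⟩), by
          change 1 * (b : G) = b
          rw [one_mul]⟩
  exact ⟨(MonoidHom.ofInjective hinj).trans (MulEquiv.subgroupCongr hr)⟩

/-- a group of order two -/
theorem nonempty_zpowers_equiv {G : Type*} [Group G] {t : G} (ht : orderOf t = 2) :
    Nonempty (Subgroup.zpowers t ≃* Multiplicative (ZMod 2)) := by
  have h1 : Nat.card (Subgroup.zpowers t) = 2 := by rw [Nat.card_zpowers, ht]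
  have h2 : Nat.card (Multiplicative (ZMod 2)) = 2 := by
    rw [Nat.card_congr Multiplicative.toAdd, Nat.card_zmod]
  haveI : IsCyclic (Subgroup.zpowers t) := inferInstance
  haveI : IsCyclic (Multiplicative (ZMod 2)) := inferInstance
  exact ⟨mulEquivOfCyclicCardEq (h1.trans h2.symm)⟩

/-- the involution centralizer of a group of Ree type, up to isomorphism -/
theorem reeType_centralizer {G : Type*} [Group G] (h : Cfsg.IsReeType G) :
    ∃ (t : G) (n : ℕ) (F : Type) (_ : Field F) (_ : Fintype F), 1 ≤ n ∧ orderOf t = 2 ∧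
      Odd (Subgroup.centralizer ({t} : Set G)).index ∧ Fintype.card F = 3 ^ (2 * n + 1) ∧
      Nonempty (Subgroup.centralizer ({t} : Set G) ≃*
        Multiplicative (ZMod 2) × Matrix.ProjectiveSpecialLinearGroup (Fin 2) F) := by
  obtain ⟨-, -, t, K, n, hn, ht, hodd, hprod, F, i1, i2, hF, ⟨e⟩⟩ := h
  obtain ⟨e1⟩ := nonempty_mulEquiv_prod hprod
  obtain ⟨e2⟩ := nonempty_zpowers_equiv ht
  exact ⟨t, n, F, i1, i2, hn, ht, hodd, hF, ⟨e1.symm.trans (MulEquiv.prodCongr e2 e)⟩⟩

theorem pow_mod_eight (n : ℕ) : 3 ^ (2 * n + 1) % 8 = 3 := by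
  rw [pow_succ, pow_mul, Nat.mul_mod, Nat.pow_mod]
  norm_num

/-- Sylow 2-subgroups of `PSL₂(q)`, `q ≡ 3, 5 (mod 8)`, are commutative -/
theorem psl_comm {F : Type*} [Field F] [Fintype F] (hq : Fintype.card F % 8 = 3 ∨ Fintype.card F % 8 = 5)
    (P : Subgroup (ProjectiveSpecialLinearGroup (Fin 2) F)) (hP : IsPGroup 2 P) :
    ∀ x ∈ P, ∀ y ∈ P, x * y = y * x := by
  obtain ⟨Q, hQ⟩ := hP.exists_le_sylow
  have h4 : Nat.card Q = 4 := S0276.card_sylow rfl hq Q
  have hc : ∀ a b : Q, a * b = b * a := by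
    haveI : Fact (Nat.Prime 2) := ⟨Nat.prime_two⟩
    exact (IsPGroup.commGroupOfCardEqPrimeSq (p := 2) (h4.trans (by norm_num))).mul_comm
  intro x hx y hy
  exact congrArg Subtype.val (hc ⟨x, hQ hx⟩ ⟨y, hQ hy⟩)

/-- groups of Ree type have commutative Sylow 2-subgroups -/
theorem reeType_comm {G : Type*} [Group G] [Finite G] (h : Cfsg.IsReeType G) :
    ∃ S : Sylow 2 G, ∀ x ∈ (S : Subgroup G), ∀ y ∈ (S : Subgroup G), x * y = y * x := by
  obtain ⟨t, n, F, i1, i2, hn, ht, hodd, hF, ⟨e⟩⟩ := reeType_centralizer h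
  haveI : Fact (Nat.Prime 2) := ⟨Nat.prime_two⟩
  obtain ⟨P⟩ : Nonempty (Sylow 2 (Subgroup.centralizer ({t} : Set G))) := inferInstance
  set C := Subgroup.centralizer ({t} : Set G) with hC
  have hPp : IsPGroup 2 ((P : Subgroup C).map C.subtype) := P.isPGroup'.map _
  have hidx : ¬ 2 ∣ ((P : Subgroup C).map C.subtype).index := by
    rw [Subgroup.index_map_subtype, Nat.prime_two.dvd_mul]
    rintro (h1 | h1)
    · exact P.not_dvd_index h1
    · exact (Nat.not_even_iff_odd.2 hodd) (even_iff_two_dvd.2 h1)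
  refine ⟨hPp.toSylow hidx, ?_⟩
  rintro _ ⟨x, hx, rfl⟩ _ ⟨y, hy, rfl⟩
  have key : x * y = y * x := by
    apply e.injective
    rw [map_mul, map_mul]
    apply Prod.ext
    · exact mul_comm _ _
    · have h2 : IsPGroup 2 ((P : Subgroup C).map ((MonoidHom.snd _ _).comp e.toMonoidHom)) := P.isPGroup'.map _
      exact psl_comm (Or.inl (by rw [hF]; exact pow_mod_eight n)) _ h2 _ ⟨x, hx, rfl⟩ _ ⟨y, hy, rfl⟩
  change (x : G) * (y : G) = (y : G) * (x : G)
  exact congrArg Subtype.val key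

theorem ree_free {G : Type*} [Group G] [Finite G] (h : Cfsg.IsReeType G) :
    ¬ Lib.Involves.Involves G (Equiv.Perm (Fin 4)) := by
  obtain ⟨S, hS⟩ := reeType_comm h
  exact not_involves_sfour_of_sylow S hS

theorem charP_two {F : Type*} [Field F] [Fintype F] {m : ℕ} (hF : Fintype.card F = 2 ^ m) :
    CharP F 2 := by
  haveI : Fact (Nat.Prime 2) := ⟨Nat.prime_two⟩
  obtain ⟨p, hp⟩ := CharP.exists F
  haveI := hp
  haveI hpp : Fact p.Prime := ⟨CharP.char_is_prime F p⟩
  obtain ⟨n, hpn, hn⟩ := FiniteField.card F p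
  have h1 : p ∣ 2 ^ m := by
    rw [← hF, hn]
    exact dvd_pow_self p n.2.ne'
  have h2 : p = 2 := (Nat.prime_dvd_prime_iff_eq hpn Nat.prime_two).1 (hpn.dvd_of_dvd_pow h1)
  subst h2
  exact hp

theorem psl_even_free {F : Type*} [Field F] [Fintype F] {m : ℕ} (hF : Fintype.card F = 2 ^ m) :
    ¬ Lib.Involves.Involves (ProjectiveSpecialLinearGroup (Fin 2) F) (Equiv.Perm (Fin 4)) := by
  haveI := charP_two hF
  haveI : Fact (Nat.Prime 2) := ⟨Nat.prime_two⟩
  intro h
  refine not_involves_sfour_of_ti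
    (G := (⊤ : Subgroup (Matrix.SpecialLinearGroup (Fin 2) F)))
    (Cfsg.Agent.H96.TISylow.sl_two_ti (p := 2) ⊤) ?_
  have h1 : Lib.Involves.Involves (Matrix.SpecialLinearGroup (Fin 2) F) (Equiv.Perm (Fin 4)) :=
    of_quotient (N := Subgroup.center _) h
  exact (congr_left Subgroup.topEquiv).2 h1

theorem psu_free {F : Type*} [Field F] [Fintype F] {n : ℕ} (hF : Fintype.card F = 4 ^ n) :
    ¬ Lib.Involves.Involves (Cfsg.PSU 3 F (2 ^ n)) (Equiv.Perm (Fin 4)) := by
  have hF2 : Fintype.card F = (2 ^ n) ^ 2 := by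
    rw [hF, ← pow_mul, mul_comm n 2, pow_mul]
    norm_num
  haveI : CharP F 2 := charP_two (m := n * 2) (by rw [hF2, ← pow_mul])
  haveI : Fact (Nat.Prime 2) := ⟨Nat.prime_two⟩
  intro h
  exact not_involves_sfour_of_ti (G := Cfsg.SU 3 F (2 ^ n))
    (Cfsg.Agent.H96.TISylow.su_three_ti (p := 2) hF2) (of_quotient h)

theorem psl_odd_free {F : Type*} [Field F] [Fintype F] (hq : Fintype.card F % 8 = 3 ∨ Fintype.card F % 8 = 5) :
    ¬ Lib.Involves.Involves (ProjectiveSpecialLinearGroup (Fin 2) F) (Equiv.Perm (Fin 4)) :=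
  not_involves_sfour_of_comm (psl_comm hq)

theorem j1_free {G : Type*} [Group G] (h : Cfsg.Spor.IsoJ1 G) :
    ¬ Lib.Involves.Involves G (Equiv.Perm (Fin 4)) := by
  obtain ⟨e⟩ := h
  rw [congr_left e]
  obtain ⟨D⟩ := Cfsg.Agent.UGT.EndJ1.Data.exists_dat
  haveI := D.fin
  obtain ⟨S, hS⟩ := D.sylow
  refine not_involves_sfour_of_sylow S ?_
  rw [hS]
  intro x hx y hy
  exact D.commE hx hy

/-- **Goldschmidt groups are `S₄`-free.** -/
theorem goldschmidt_free {G : Type*} [Group G] [Finite G] (h : Cfsg.IsGoldschmidtGroup G) :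
    ¬ Lib.Involves.Involves G (Equiv.Perm (Fin 4)) := by
  rcases h with h | ⟨F, i1, i2, n, hn, hF, ⟨e⟩⟩ | h | ⟨F, i1, i2, n, hn, hF, ⟨e⟩⟩ |
    ⟨F, i1, i2, q, hF, h5, hq, ⟨e⟩⟩ | h
  · exact ree_free h
  · rw [congr_left e]
    exact psl_even_free hF
  · exact not_involves_sfour_of_not_three_dvd (Cfsg.Agent.OddCyclic.T1Socle.not_three_dvd h)
  · rw [congr_left e]
    exact psu_free hF
  · rw [congr_left e]
    exact psl_odd_free (by rw [hF]; exact hq)
  · exact j1_free h

end Cfsg.Agent.H211.GoldFree
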