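import Mathlib.GroupTheory.Sylow
import Mathlib.GroupTheory.SpecificGroups.Alternating
import Mathlib.Tactic
import Cfsg.Agent.Lib.Involves

/-!
# Sections with a nontrivial normal `p`-subgroup are sections of `p`-local subgroups
-/

set_option autoImplicit false
set_option linter.style.haveILetI false

namespace Cfsg.Agent.H211.LocalSection

open Cfsg.Agent.Lib.Involves

/-- If `Y` has a nontrivial normal `p`-subgroup and `Y` is a section of `G`, then `Y` is a section of the normalizer of
a nontrivial `p`-subgroup of `G`. -/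
theorem exists_local {p : ℕ} [Fact p.Prime] {G Y : Type*} [Group G] [Finite G] [Group Y]
    (T : Subgroup Y) (hTn : T.Normal) (hTp : IsPGroup p T) (hT1 : T ≠ ⊥)
    (hi : Lib.Involves.Involves G Y) :
    ∃ Q : Subgroup G, IsPGroup p Q ∧ Q ≠ ⊥ ∧
      Lib.Involves.Involves (Subgroup.normalizer (Q : Set G)) Y := by
  obtain ⟨K, f, hf⟩ := hi
  haveI hfin : Finite Y := Finite.of_surjective f hf
  -- a Sylow `p`-subgroup of the preimage of `T`
  set M : Subgroup K := Subgroup.comap f T with hM
  haveI hMn : M.Normal := hTn.comap f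
  obtain ⟨S⟩ : Nonempty (Sylow p M) := inferInstance
  set S0 : Subgroup K := (S : Subgroup M).map M.subtype with hS0
  have hSM : S0 ≤ M := Subgroup.map_subtype_le _
  -- `S0` maps onto `T`
  have hSp : IsPGroup p S0 := S.isPGroup'.map _
  have hST : S0.map f = T := by
    let g : M →* T := f.subgroupComap T
    have hg : Function.Surjective g := by
      rintro ⟨y, hy⟩
      obtain ⟨x, hx⟩ := hf y
      refine ⟨⟨x, ?_⟩, ?_⟩
      · rw [hM, Subgroup.mem_comap, hx]
        exact hy
      · apply Subtype.ext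
        exact hx
    have h1 : ((S.mapSurjective hg : Sylow p T) : Subgroup T) = ⊤ := by
      obtain ⟨Q⟩ : Nonempty (Sylow p T) := inferInstance
      have h2 : IsPGroup p (⊤ : Subgroup T) := hTp.to_subgroup _
      exact ((S.mapSurjective hg).3 h2 le_top).symm
    have h2 : (S : Subgroup M).map g = ⊤ := h1
    apply le_antisymm
    · rintro _ ⟨x, hx, rfl⟩
      exact hSM hx
    · intro y hy
      have h3 : (⟨y, hy⟩ : T) ∈ (S : Subgroup M).map g := by rw [h2]; trivial
      obtain ⟨x, hx, hxy⟩ := h3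
      exact ⟨x.1, ⟨x, hx, rfl⟩, congrArg Subtype.val hxy⟩
  have hS0ne : S0 ≠ ⊥ := by
    intro h0
    apply hT1
    rw [← hST, h0, Subgroup.map_bot]
  -- Frattini
  have hF : Subgroup.normalizer (S0 : Set K) ⊔ M = ⊤ := Sylow.normalizer_sup_eq_top S
  set N := Subgroup.normalizer (S0 : Set K) with hN
  have hfN : ∀ y, ∃ x : N, f x = y := by
    intro y
    obtain ⟨k, rfl⟩ := hf y
    have hk : k ∈ (M ⊔ N : Subgroup K) := by
      rw [sup_comm, hF]; trivial
    obtain ⟨m, hm, n, hn, rfl⟩ := Subgroup.mem_sup_of_normal_left.1 hk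
    have h1 : f m ∈ S0.map f := by rw [hST]; exact hm
    obtain ⟨s, hs, hsm⟩ := h1
    refine ⟨⟨s * n, N.mul_mem (Subgroup.le_normalizer hs) hn⟩, ?_⟩
    rw [map_mul, map_mul, hsm]
  -- the map from the normalizer in `G`
  let Q : Subgroup G := S0.map K.subtype
  have hQ : IsPGroup p Q := hSp.map _
  have hQne : Q ≠ ⊥ := by
    intro h0
    apply hS0ne
    exact (Subgroup.map_eq_bot_iff_of_injective _ K.subtype_injective).1 h0
  refine ⟨Q, hQ, hQne, ?_⟩
  let j : N →* Subgroup.normalizer (Q : Set G) :=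
    { toFun := fun x => ⟨x.1.1, by
        have hx : ∀ s : K, s ∈ S0 ↔ x.1 * s * x.1⁻¹ ∈ S0 :=
          Subgroup.mem_normalizer_iff.1 x.2
        rw [Subgroup.mem_normalizer_iff]
        intro g
        constructor
        · rintro ⟨s, hs, rfl⟩
          exact ⟨x.1 * s * x.1⁻¹, (hx s).1 hs, rfl⟩
        · rintro ⟨s, hs, hsg⟩
          refine ⟨x.1⁻¹ * s * x.1, ?_, ?_⟩
          · change x.1⁻¹ * s * x.1 ∈ S0
            rw [hx]
            have : x.1 * (x.1⁻¹ * s * x.1) * x.1⁻¹ = s := by group
            rw [this]; exact hs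
          · change (x.1 : G)⁻¹ * (s : G) * x.1 = g
            have hsg' : (s : G) = x.1 * g * (x.1 : G)⁻¹ := hsg
            rw [hsg']; group⟩
      map_one' := rfl
      map_mul' := fun _ _ => rfl }
  have hj : Function.Injective j := by
    intro x y hxy
    have h2 : (x.1.1 : G) = y.1.1 := congrArg (fun z : Subgroup.normalizer (Q : Set G) => z.1) hxy
    exact Subtype.ext (Subtype.ext h2)
  refine of_injective_of_surjective j hj (f.comp N.subtype) ?_
  intro y
  obtain ⟨x, hx⟩ := hfN y
  exact ⟨x, hx⟩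

/-- If no involution normalizes a nontrivial 3-subgroup then `S₃` is not involved. -/
theorem not_involves_sthree {G : Type*} [Group G] [Finite G]
    (h : ∀ Q : Subgroup G, IsPGroup 3 Q → Q ≠ ⊥ → ∀ u ∈ Subgroup.normalizer (Q : Set G), u * u = 1 → u = 1) :
    ¬ Lib.Involves.Involves G (Equiv.Perm (Fin 3)) := by
  haveI : Fact (Nat.Prime 3) := ⟨Nat.prime_three⟩
  intro hi
  have hA : IsPGroup 3 (alternatingGroup (Fin 3)) := by
    rw [IsPGroup.iff_card]
    refine ⟨1, ?_⟩
    rw [nat_card_alternatingGroup]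
    simp
    decide
  have hA1 : alternatingGroup (Fin 3) ≠ ⊥ := by
    intro h0
    have h1 : Equiv.swap (0 : Fin 3) 1 * Equiv.swap (1 : Fin 3) 2 ∈ alternatingGroup (Fin 3) := by
      rw [Equiv.Perm.mem_alternatingGroup]
      decide
    rw [h0, Subgroup.mem_bot] at h1
    revert h1
    decide
  obtain ⟨Q, hQ, hQ1, K, f, hf⟩ := exists_local (alternatingGroup (Fin 3)) inferInstance hA hA1 hi
  have h2 : 2 ∣ Nat.card K := by
    refine Dvd.dvd.trans ?_ (Subgroup.card_dvd_of_surjective f hf)
    rw [Nat.card_eq_fintype_card, Fintype.card_perm, Fintype.card_fin]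
    decide
  haveI : Fact (Nat.Prime 2) := ⟨Nat.prime_two⟩
  obtain ⟨u, hu⟩ := exists_prime_orderOf_dvd_card' 2 h2
  have hu1 : u ≠ 1 := by
    rintro rfl
    simp at hu
  have huu : u * u = 1 := by
    have := pow_orderOf_eq_one u
    rwa [hu, pow_two] at this
  apply hu1
  apply Subtype.ext
  apply Subtype.ext
  refine h Q hQ hQ1 _ u.1.2 ?_
  exact congrArg (fun z : K => (z.1.1 : G)) huu

end Cfsg.Agent.H211.LocalSection
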