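import Mathlib
import Cfsg.Agent.Lib.Involves
import Cfsg.Agent.Ree.PSLBorel
import Cfsg.Agent.ClassicalGeometry.PSL2Basic
import Cfsg.Agent.H211.LocalSection

/-!
# `PSL₂(3^(2n+1))` does not involve the symmetric group of degree 3
-/

set_option autoImplicit false
set_option linter.style.haveILetI false

namespace Cfsg.Agent.H211.PslThree

open Matrix Cfsg.Agent.Ree.PSLBorel Cfsg.Agent.Lib.Involves

/-- In the presence of Borel data with `q ≡ 3 (mod 4)` a power of the prime `p`, no involution normalizes a nontrivial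
`p`-subgroup. -/
theorem no_involution {L : Type*} [Group L] [Finite L] {q : ℕ} {E T : Subgroup L} {w : L} (D : Data q E T w)
    {p n : ℕ} [hp : Fact p.Prime] (hq : q = p ^ n) (hq4 : q % 4 = 3)
    (hidx : ¬ p ∣ E.index) (Q : Subgroup L) (hQ : IsPGroup p Q) (hQ1 : Q ≠ ⊥) (u : L)
    (hu : u ∈ Subgroup.normalizer (Q : Set L)) (huu : u * u = 1) : u = 1 := by
  have hEp : IsPGroup p E := IsPGroup.of_card (n := n) (by rw [D.card_E, hq])
  obtain ⟨P, hP⟩ := hQ.exists_le_sylow
  obtain ⟨g, hg⟩ := MulAction.exists_smul_eq L (hEp.toSylow hidx) P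
  obtain ⟨x, hxQ, hx1⟩ := (Subgroup.bot_or_exists_ne_one Q).resolve_left hQ1
  have hmem : ∀ y ∈ Q, g⁻¹ * y * g ∈ E := by
    intro y hy
    have h1 := hP hy
    rw [← hg] at h1
    obtain ⟨z, hz, hzy⟩ := h1
    have h2 : g * z * g⁻¹ = y := hzy
    rw [← h2]
    have : g⁻¹ * (g * z * g⁻¹) * g = z := by group
    rw [this]
    exact hz
  set e := g⁻¹ * x * g with he
  set v := g⁻¹ * u * g with hv
  have he1 : e ≠ 1 := by
    intro h0
    apply hx1
    have : x = g * e * g⁻¹ := by rw [he]; group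
    rw [this, h0]; group
  have heE : e ∈ E := hmem x hxQ
  have hve : v * e * v⁻¹ ∈ E := by
    have h1 : u * x * u⁻¹ ∈ Q := (Subgroup.mem_normalizer_iff.1 hu x).1 hxQ
    have h2 := hmem _ h1
    have h3 : v * e * v⁻¹ = g⁻¹ * (u * x * u⁻¹) * g := by rw [hv, he]; group
    rw [h3]; exact h2
  obtain ⟨a, haE, t, htT, hat⟩ := D.ti_E e heE he1 v hve
  have hvv : v * v = 1 := by
    have : v * v = g⁻¹ * (u * u) * g := by rw [hv]; group
    rw [this, huu]; group
  -- `t * t ∈ E`
  have h1 : t * t ∈ E := by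
    have h2 : t * a * t⁻¹ ∈ E := D.conj_E t htT a haE
    have h3 : t * t = (t * a * t⁻¹)⁻¹ * a⁻¹ := by
      have h4 : a * t * (a * t) = 1 := by rw [← hat]; exact hvv
      have h5 : a * (t * a * t⁻¹) * (t * t) = 1 := by
        calc a * (t * a * t⁻¹) * (t * t) = a * t * (a * t) := by group
          _ = 1 := h4
      have h6 : t * t = (a * (t * a * t⁻¹))⁻¹ := eq_inv_of_mul_eq_one_right h5
      rw [h6, _root_.mul_inv_rev]
    rw [h3]
    exact E.mul_mem (E.inv_mem h2) (E.inv_mem haE)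
  have hcardT : 2 * Nat.card T = q - 1 := D.card_T
  have hoddT : Odd (Nat.card T) := by
    rw [Nat.odd_iff]; omega
  have hcop : Nat.Coprime (Nat.card E) (Nat.card T) := by
    rw [D.card_E]
    have h2 : Nat.Coprime q (q - 1) := by
      have : q = (q - 1) + 1 := by omega
      rw [this]
      simp
    rw [← hcardT] at h2
    exact Nat.Coprime.coprime_dvd_right (Dvd.intro_left 2 rfl) h2
  have htt : t * t = 1 := by
    have h2 : orderOf (t * t) ∣ Nat.card E := by
      have := orderOf_dvd_natCard (⟨t * t, h1⟩ : E)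
      rwa [Subgroup.orderOf_mk] at this
    have h3 : orderOf (t * t) ∣ Nat.card T := by
      have := orderOf_dvd_natCard (⟨t * t, T.mul_mem htT htT⟩ : T)
      rwa [Subgroup.orderOf_mk] at this
    have h4 := Nat.dvd_gcd h2 h3
    rw [hcop.gcd_eq_one, Nat.dvd_one, orderOf_eq_one_iff] at h4
    exact h4
  have ht1 : t = 1 := by
    have h2 : orderOf t ∣ 2 := orderOf_dvd_of_pow_eq_one (by rw [pow_two]; exact htt)
    have h3 : orderOf t ∣ Nat.card T := by
      have := orderOf_dvd_natCard (⟨t, htT⟩ : T)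
      rwa [Subgroup.orderOf_mk] at this
    have h4 := Nat.dvd_gcd h2 h3
    rw [(Nat.coprime_two_left.2 hoddT).gcd_eq_one, Nat.dvd_one, orderOf_eq_one_iff] at h4
    exact h4
  have hva : v = a := by rw [hat, ht1, mul_one]
  have hv1 : v = 1 := by
    have h2 : orderOf v ∣ 2 := orderOf_dvd_of_pow_eq_one (by rw [pow_two]; exact hvv)
    have h3 : orderOf v ∣ Nat.card E := by
      have := orderOf_dvd_natCard (⟨v, by rw [hva]; exact haE⟩ : E)
      rwa [Subgroup.orderOf_mk] at this
    have h4 := Nat.dvd_gcd h2 h3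
    have h5 : Odd (Nat.card E) := by
      rw [D.card_E, Nat.odd_iff]; omega
    rw [(Nat.coprime_two_left.2 h5).gcd_eq_one, Nat.dvd_one, orderOf_eq_one_iff] at h4
    exact h4
  have : u = g * v * g⁻¹ := by rw [hv]; group
  rw [this, hv1]; group

/-- `S₃` is not involved in `PSL₂(3^(2n+1))`. -/
theorem not_involves {F : Type*} [Field F] [Fintype F] {n : ℕ} (hF : Fintype.card F = 3 ^ (2 * n + 1)) :
    ¬ Lib.Involves.Involves (ProjectiveSpecialLinearGroup (Fin 2) F) (Equiv.Perm (Fin 3)) := by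
  haveI : Fact (Nat.Prime 3) := ⟨Nat.prime_three⟩
  have h4 : Fintype.card F % 4 = 3 := by
    rw [hF, pow_succ, pow_mul, Nat.mul_mod, Nat.pow_mod]
    norm_num
  have hodd : Odd (Fintype.card F) := by rw [Nat.odd_iff]; omega
  obtain ⟨E, T, w, D⟩ := exists_data F hodd
  have hidx : ¬ 3 ∣ E.index := by
    intro h3
    have h1 := E.card_mul_index
    rw [D.card_E] at h1
    have h2 := Cfsg.Agent.ClassicalGeometry.PSL2Basic.card_PSL2_odd (F := F) hodd
    rw [← h1] at h2
    have h5 : 0 < Fintype.card F := Fintype.card_pos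
    have h6 : E.index * 2 = Fintype.card F ^ 2 - 1 := by
      apply Nat.eq_of_mul_eq_mul_left h5
      rw [← h2]; ring
    have h7 : 3 ∣ Fintype.card F ^ 2 - 1 := h6 ▸ (h3.mul_right 2)
    have h8 : 3 ∣ Fintype.card F ^ 2 := by
      rw [hF]
      exact dvd_pow (dvd_pow_self 3 (by omega)) (by norm_num)
    have h9 : 1 ≤ Fintype.card F ^ 2 := Nat.one_le_pow _ _ h5
    omega
  exact LocalSection.not_involves_sthree
    (fun Q hQ hQ1 u hu huu => no_involution D hF h4 hidx Q hQ hQ1 u hu huu)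

end Cfsg.Agent.H211.PslThree
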