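import Cfsg.Agent.H211.ThmA

/-!
# Normalizers of `Z(J(T))` and sections `S₃`: quotients
-/

set_option autoImplicit false
set_option linter.style.haveILetI false

namespace Cfsg.Agent.H211.ThmA

universe u

open Cfsg Cfsg.Agent.PLocal Subgroup
open Cfsg.Agent.Lib.GoldschmidtFusion

theorem eq_one_of_three_of_two {G : Type*} [Group G] {y : G} {n m : ℕ} (h3 : y ^ 3 ^ n = 1)
    (h2 : y ^ 2 ^ m = 1) : y = 1 := by
  have h4 : orderOf y ∣ 3 ^ n := orderOf_dvd_of_pow_eq_one h3
  have h5 : orderOf y ∣ 2 ^ m := orderOf_dvd_of_pow_eq_one h2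
  have h6 : (3 ^ n).Coprime (2 ^ m) := Nat.Coprime.pow _ _ (by norm_num)
  have h7 : orderOf y ∣ 1 := by
    rw [← h6.gcd_eq_one]
    exact Nat.dvd_gcd h4 h5
  exact orderOf_eq_one_iff.1 (Nat.dvd_one.1 h7)

/-- 2-elements centralizing the normal 3-subgroup `Q` -/
theorem free_of_centralizes {G : Type*} [Group G] [Finite G] (Q : Subgroup G) [Q.Normal]
    (hGQ : Free (G ⧸ Q))
    (hc : ∀ u : G, (∃ n : ℕ, u ^ 2 ^ n = 1) → ∀ x ∈ Q, u * x = x * u) : Free G := by
  intro hi
  obtain ⟨y, t, hy1, ⟨n, hn⟩, ht, hinv⟩ := RealThree.exists_of_involves hi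
  have hyQ : y ∈ Q := by
    by_contra hcon
    apply hGQ
    refine RealThree.involves_of_inverted (y := QuotientGroup.mk' Q y)
      (t := QuotientGroup.mk' Q t) ?_ ⟨n, ?_⟩ ?_
    · intro h
      exact hcon ((QuotientGroup.eq_one_iff y).1 h)
    · rw [← map_pow, hn, map_one]
    · rw [← map_inv, ← map_mul, ← map_mul, hinv, map_inv]
  have h1 := hc t ht y hyQ
  have h2 : y = y⁻¹ := by
    rw [← hinv, h1]; group
  have h3 : y ^ 2 ^ 1 = 1 := by
    rw [pow_one, pow_two]
    nth_rewrite 2 [h2]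
    group
  exact hy1 (eq_one_of_three_of_two hn h3)

theorem free_of_quotient_coprime {G : Type*} [Group G] [Finite G] (D : Subgroup G) [D.Normal]
    (hD : (Nat.card D).Coprime 3) (hGD : Free (G ⧸ D)) : Free G := by
  intro hi
  obtain ⟨y, t, hy1, ⟨n, hn⟩, ht, hinv⟩ := RealThree.exists_of_involves hi
  apply hGD
  refine RealThree.involves_of_inverted (y := QuotientGroup.mk' D y)
    (t := QuotientGroup.mk' D t) ?_ ⟨n, ?_⟩ ?_
  · intro h
    have hyD : y ∈ D := (QuotientGroup.eq_one_iff y).1 h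
    apply hy1
    have h4 : orderOf y ∣ 3 ^ n := orderOf_dvd_of_pow_eq_one hn
    have h5 : orderOf y ∣ Nat.card D := by
      have := orderOf_dvd_natCard (⟨y, hyD⟩ : D)
      rwa [Subgroup.orderOf_mk] at this
    have h6 : (Nat.card D).Coprime (3 ^ n) := Nat.Coprime.pow_right _ hD
    have h7 : orderOf y ∣ 1 := by
      rw [← h6.gcd_eq_one]
      exact Nat.dvd_gcd h5 h4
    exact orderOf_eq_one_iff.1 (Nat.dvd_one.1 h7)
  · rw [← map_pow, hn, map_one]
  · rw [← map_inv, ← map_mul, ← map_mul, hinv, map_inv]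

/-- reduction modulo `O_{3'}(G)` -/
theorem of_pPrimeCore {G : Type u} [Group G] [Finite G] {K : Subgroup G} [K.Normal]
    (hKc : (Nat.card K).Coprime 3) (hgood : Good (G ⧸ K))
    (T : Sylow 3 G) (hT : Free (normalizer (centerThompsonAOf (T : Subgroup G) : Set G))) : Free G := by
  haveI : Fact (Nat.Prime 3) := ⟨Nat.prime_three⟩
  have hPK : (T : Subgroup G) ⊓ K = ⊥ :=
    PConstrained.inf_eq_bot_of_isPGroup_of_coprime T.isPGroup' hKc
  set φ := QuotientGroup.mk' K with hφ
  have hφs : Function.Surjective φ := QuotientGroup.mk'_surjective K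
  have hker : φ.ker = K := QuotientGroup.ker_mk' K
  have hkc : (Nat.card φ.ker).Coprime 3 := by rw [hker]; exact hKc
  refine free_of_quotient_coprime K hKc (hgood (T.mapSurjective hφs) ?_)
  have hZp : IsPGroup 3 (centerThompsonAOf (T : Subgroup G)) :=
    T.isPGroup'.to_le (ThompsonJA.centerThompsonAOf_le _)
  have h5 := PConstrained.map_normalizer_eq φ hφs hkc hZp
  rw [Sylow.coe_mapSurjective, ← Walter.ZJFusion.map_ZJ_of_disjoint φ (by rw [hker]; exact hPK), ← h5]
  exact hT.of_map φ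

/-- `G / O₃(G)` -/
theorem quotient_free {G : Type u} [Group G] [Finite G] {Q : Subgroup G} [Q.Normal]
    (hQ3 : IsPGroup 3 Q) (hQ : pCore 3 G ≤ Q) (hgood : Good (G ⧸ Q)) (T : Sylow 3 G)
    (hover : ∀ H : Subgroup G, (T : Subgroup G) ≤ H → H ≠ ⊤ → Free H) : Free (G ⧸ Q) := by
  haveI : Fact (Nat.Prime 3) := ⟨Nat.prime_three⟩
  set φ := QuotientGroup.mk' Q with hφ
  have hφs : Function.Surjective φ := QuotientGroup.mk'_surjective Q
  have hker : φ.ker = Q := QuotientGroup.ker_mk' Q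
  intro hnf
  have hnZ : ¬ Free (normalizer (centerThompsonAOf ((T.mapSurjective hφs : Sylow 3 (G ⧸ Q)) :
    Subgroup (G ⧸ Q)) : Set (G ⧸ Q))) := fun h => hgood _ h hnf
  set T' : Sylow 3 (G ⧸ Q) := T.mapSurjective hφs with hT'
  set Z := centerThompsonAOf (T' : Subgroup (G ⧸ Q)) with hZ
  have hTle : (T : Subgroup G) ≤ (normalizer (Z : Set (G ⧸ Q))).comap φ := by
    rw [← Subgroup.map_le_iff_le_comap, ← Sylow.coe_mapSurjective hφs T]
    exact le_normalizer.trans (ThompsonJA.normalizer_le_normalizer_centerThompsonAOf _)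
  have hmapcomap : ((normalizer (Z : Set (G ⧸ Q))).comap φ).map φ = normalizer (Z : Set (G ⧸ Q)) :=
    Subgroup.map_comap_eq_self_of_surjective hφs _
  by_cases htop : (normalizer (Z : Set (G ⧸ Q))).comap φ = ⊤
  · have hNtop : normalizer (Z : Set (G ⧸ Q)) = ⊤ := by
      rw [← hmapcomap, htop, ← MonoidHom.range_eq_map]
      exact MonoidHom.range_eq_top.2 hφs
    have hZn : Z.Normal := normalizer_eq_top_iff.1 hNtop
    have hZp : IsPGroup 3 Z := T'.isPGroup'.to_le (ThompsonJA.centerThompsonAOf_le _)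
    have h1 : IsPGroup 3 (Z.comap φ) := hZp.comap_of_ker_isPGroup φ (by rw [hker]; exact hQ3)
    have h2 : Z.comap φ ≤ Q := (Lib.Cores.le_pCore (hZn.comap φ) h1).trans hQ
    have h3 : Z = ⊥ := by
      rw [← Subgroup.map_comap_eq_self_of_surjective hφs Z, Subgroup.map_eq_bot_iff, hker]
      exact h2
    have h4 : (T' : Subgroup (G ⧸ Q)) = ⊥ := by
      by_contra hne
      exact ThompsonJA.centerThompsonAOf_ne_bot _ T'.isPGroup' hne h3
    have h5 : ¬ 3 ∣ Nat.card (G ⧸ Q) := by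
      have := T'.not_dvd_index
      rwa [h4, Subgroup.index_bot] at this
    exact TIFree.not_involves_sthree_of_not_three_dvd h5 hnf
  · apply hnZ
    rw [← hmapcomap]
    exact (hover _ hTle htop).of_map φ

end Cfsg.Agent.H211.ThmA
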