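import Cfsg.Agent.H211.ThmB
import Cfsg.Agent.S2755

/-!
# Normalizers of `Z(J(T))` and sections `S₃`: the theorem
-/

set_option autoImplicit false
set_option linter.style.haveILetI false

namespace Cfsg.Agent.H211.ThmA

universe u

open Cfsg Cfsg.Agent.PLocal Subgroup
open Cfsg.Agent.Lib.GoldschmidtFusion
open Cfsg.Agent.Walter.QdAbelian

theorem mem_normalizer_of_normal {G : Type*} [Group G] (A : Subgroup G) [A.Normal] (g : G) :
    g ∈ normalizer (A : Set G) := by
  rw [normalizer_eq_top]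
  trivial

theorem abTwo_of_normal {G : Type*} [Group G] [Finite G] (M : Subgroup G)
    (h2 : ∀ u : G, (∃ n : ℕ, u ^ 2 ^ n = 1) → u ∈ M) (hM : AbTwo M) : AbTwo G := by
  intro P hP a ha b hb
  have hPM : P ≤ M := by
    intro x hx
    obtain ⟨k, hk⟩ := hP ⟨x, hx⟩
    exact h2 x ⟨k, congrArg Subtype.val hk⟩
  have h1 : IsPGroup 2 (P.subgroupOf M) := hP.comap_of_injective M.subtype M.subtype_injective
  have h3 := hM _ h1 ⟨a, hPM ha⟩ (by simpa [mem_subgroupOf] using ha) ⟨b, hPM hb⟩
    (by simpa [mem_subgroupOf] using hb)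
  exact congrArg Subtype.val h3

theorem abTwo_of_quotient {G : Type*} [Group G] [Finite G] (K : Subgroup G) [K.Normal]
    (hK : (Nat.card K).Coprime 2) (h : AbTwo (G ⧸ K)) : AbTwo G := by
  intro P hP a ha b hb
  have h1 : IsPGroup 2 (P.map (QuotientGroup.mk' K)) := hP.map _
  have h2 := h _ h1 (QuotientGroup.mk' K a) ⟨a, ha, rfl⟩ (QuotientGroup.mk' K b) ⟨b, hb, rfl⟩
  have h3 : QuotientGroup.mk' K (a * b * a⁻¹ * b⁻¹) = 1 := by
    rw [map_mul, map_mul, map_mul, map_inv, map_inv, h2]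
    group
  have h4 : a * b * a⁻¹ * b⁻¹ ∈ K := (QuotientGroup.eq_one_iff _).1 h3
  have h5 : a * b * a⁻¹ * b⁻¹ ∈ P :=
    P.mul_mem (P.mul_mem (P.mul_mem ha hb) (P.inv_mem ha)) (P.inv_mem hb)
  haveI : Fact (Nat.Prime 2) := ⟨Nat.prime_two⟩
  have h6 : P ⊓ K = ⊥ := PConstrained.inf_eq_bot_of_isPGroup_of_coprime hP hK
  have h7 : a * b * a⁻¹ * b⁻¹ ∈ P ⊓ K := ⟨h5, h4⟩
  rw [h6, mem_bot] at h7
  have h8 : a * b = a * b * a⁻¹ * b⁻¹ * (b * a) := by group
  rw [h8, h7, one_mul]

theorem abTwo_pi {ι : Type*} [Finite ι] {L : Type*} [Group L] [Finite L] (h : AbTwo L) :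
    AbTwo (ι → L) := by
  intro P hP a ha b hb
  funext i
  have h1 : IsPGroup 2 (P.map (Pi.evalMonoidHom (fun _ : ι => L) i)) := hP.map _
  exact h _ h1 (a i) ⟨a, ha, rfl⟩ (b i) ⟨b, hb, rfl⟩

theorem abTwo_congr {G H : Type*} [Group G] [Group H] (e : G ≃* H) (h : AbTwo H) : AbTwo G := by
  intro P hP a ha b hb
  have h1 : IsPGroup 2 (P.map e.toMonoidHom) := hP.map _
  have h2 := h _ h1 (e a) ⟨a, ha, rfl⟩ (e b) ⟨b, hb, rfl⟩
  rw [← map_mul, ← map_mul] at h2
  exact e.injective h2

theorem abTwo_of_comm {G : Type*} [Group G] (h : ∀ a b : G, a * b = b * a) : AbTwo G :=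
  fun _ _ a _ b _ => h a b

/-- simple groups of order divisible by 3 without section `S₃` -/
theorem abTwo_simple {L : Type*} [Group L] [Finite L] (hs : IsSimpleGroup L)
    (hna : ¬ IsMulCommutative L) (h3 : 3 ∣ Nat.card L) (hf : Free L) : AbTwo L := by
  rcases S2755.of_simple hs hna h3 hf with h | ⟨F, i1, i2, n, hF, ⟨e⟩⟩
  · exact absurd h3 (Cfsg.Agent.OddCyclic.T1Socle.not_three_dvd h)
  · refine abTwo_congr e ?_
    intro P hP
    refine GoldFree.psl_comm ?_ P hP
    left
    rw [hF]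
    exact GoldFree.pow_mod_eight n

/-- a minimal normal subgroup of order divisible by 6 -/
theorem abTwo_minimal {G : Type*} [Group G] [Finite G] (hf : Free G) (M : Subgroup G) [M.Normal]
    (hM : M ≠ ⊥) (hmin : ∀ N : Subgroup G, N.Normal → N ≤ M → N = ⊥ ∨ N = M)
    (h2 : 2 ∣ Nat.card M) (h3 : 3 ∣ Nat.card M) : AbTwo M := by
  obtain ⟨L, m, hLM, hLs, hm, ⟨e⟩⟩ := Lib.MinNormal.exists_mulEquiv_pi M hM hmin
  refine abTwo_congr e (abTwo_pi ?_)
  have hcard : Nat.card M = Nat.card L ^ m := by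
    rw [Nat.card_congr e.toEquiv, Nat.card_fun, Nat.card_fin]
  rw [hcard] at h2 h3
  have h2' := Nat.prime_two.dvd_of_dvd_pow h2
  have h3' := Nat.prime_three.dvd_of_dvd_pow h3
  refine abTwo_simple hLs ?_ h3' (hf.subgroup L)
  intro hc
  have hp : (Nat.card L).Prime := by
    letI : CommGroup L := { (inferInstance : Group L) with mul_comm := hc.is_comm.comm }
    exact IsSimpleGroup.prime_card
  have h4 := (Nat.prime_dvd_prime_iff_eq Nat.prime_two hp).1 h2'
  have h5 := (Nat.prime_dvd_prime_iff_eq Nat.prime_three hp).1 h3'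
  omega

/-- a minimal normal 2-subgroup is abelian -/
theorem abTwo_minimal_two {G : Type*} [Group G] [Finite G] (M : Subgroup G) [M.Normal]
    (hM : M ≠ ⊥) (hmin : ∀ N : Subgroup G, N.Normal → N ≤ M → N = ⊥ ∨ N = M)
    (h2 : IsPGroup 2 M) : AbTwo M := by
  haveI : Fact (Nat.Prime 2) := ⟨Nat.prime_two⟩
  obtain ⟨L, m, hLM, hLs, hm, ⟨e⟩⟩ := Lib.MinNormal.exists_mulEquiv_pi M hM hmin
  refine abTwo_congr e (abTwo_pi (abTwo_of_comm ?_))
  have hL2 : IsPGroup 2 L := h2.to_le hLM
  haveI := hL2.isNilpotent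
  haveI : Group.IsSolvable L := inferInstance
  exact fun a b => (IsSimpleGroup.comm_iff_isSolvable.2 inferInstance) a b

/-- The abelian Sylow 2-subgroup step: `T` is a Sylow 3-subgroup, every proper subgroup containing `T` has no
involution, `Q` is a normal 3-subgroup with `G / Q` free of sections `S₃`. -/
theorem abTwo_of_over {G : Type*} [Group G] [Finite G] (T : Sylow 3 G)
    (hodd : ∀ H : Subgroup G, (T : Subgroup G) ≤ H → H ≠ ⊤ → ¬ 2 ∣ Nat.card H)
    {Q : Subgroup G} [Q.Normal] (hQ : IsPGroup 3 Q) (hGQ : Free (G ⧸ Q)) (h2G : 2 ∣ Nat.card G) :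
    AbTwo G := by
  haveI : Fact (Nat.Prime 2) := ⟨Nat.prime_two⟩
  haveI : Fact (Nat.Prime 3) := ⟨Nat.prime_three⟩
  set K := pPrimeCore 2 G with hK
  haveI hKn : K.Normal := Lib.Cores.pPrimeCore_normal 2
  have hKc : (Nat.card K).Coprime 2 := Lib.Cores.pPrimeCore_coprime 2
  refine abTwo_of_quotient K hKc ?_
  have hKbar : pPrimeCore 2 (G ⧸ K) = ⊥ := Lib.Cores.pPrimeCore_quotient_pPrimeCore 2
  have hQK : Q ≤ K := by
    refine Lib.Cores.le_pPrimeCore inferInstance ?_
    obtain ⟨n, hn⟩ := IsPGroup.iff_card.1 hQ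
    rw [hn]
    exact Nat.Coprime.pow_left n (by norm_num)
  have hfK : Free (G ⧸ K) := by
    refine Free.of_surjective (QuotientGroup.map Q K (MonoidHom.id G) hQK) ?_ hGQ
    intro x
    obtain ⟨g, rfl⟩ := QuotientGroup.mk_surjective x
    exact ⟨(g : G ⧸ Q), rfl⟩
  set φ := QuotientGroup.mk' K with hφ
  have hφs : Function.Surjective φ := QuotientGroup.mk'_surjective K
  have hker : φ.ker = K := QuotientGroup.ker_mk' K
  -- a minimal normal subgroup
  have hne : {M : Subgroup (G ⧸ K) | M.Normal ∧ M ≠ ⊥}.Nonempty := by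
    refine ⟨⊤, inferInstance, ?_⟩
    intro h
    have h1 : Nat.card (G ⧸ K) = 1 := by
      rw [← Subgroup.card_top (G := G ⧸ K), h, Subgroup.card_bot]
    have h3 : Nat.card G = Nat.card (G ⧸ K) * Nat.card K := Subgroup.card_eq_card_quotient_mul_card_subgroup K
    rw [h1, one_mul] at h3
    rw [h3] at h2G
    have := Nat.Coprime.eq_one_of_dvd hKc.symm h2G
    omega
  obtain ⟨M, ⟨hMn, hM1⟩, hMmin⟩ := (Set.toFinite _).exists_minimal hne
  haveI := hMn
  have hmin : ∀ N : Subgroup (G ⧸ K), N.Normal → N ≤ M → N = ⊥ ∨ N = M := by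
    intro N hN hNM
    by_cases h : N = ⊥
    · exact Or.inl h
    · exact Or.inr (le_antisymm hNM (hMmin ⟨hN, h⟩ hNM))
  have h2M : 2 ∣ Nat.card M := by
    by_contra hcon
    apply hM1
    rw [← le_bot_iff, ← hKbar]
    exact Lib.Cores.le_pPrimeCore hMn ((Nat.Prime.coprime_iff_not_dvd Nat.prime_two).2 hcon).symm
  have hcomap : ∀ A : Subgroup (G ⧸ K), Nat.card A ∣ Nat.card (A.comap φ) := by
    intro A
    refine Subgroup.card_dvd_of_surjective (φ.subgroupComap A) ?_
    rintro ⟨x, hx⟩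
    obtain ⟨g, rfl⟩ := hφs x
    exact ⟨⟨g, hx⟩, rfl⟩
  -- `M T = G`
  have hMT : M.comap φ ⊔ (T : Subgroup G) = ⊤ := by
    by_contra hcon
    refine hodd _ le_sup_right hcon ?_
    exact (h2M.trans (hcomap M)).trans (Subgroup.card_dvd_of_le le_sup_left)
  have hMT' : M ⊔ (T : Subgroup G).map φ = ⊤ := by
    have h1 := congrArg (Subgroup.map φ) hMT
    rw [Subgroup.map_sup, Subgroup.map_comap_eq_self_of_surjective hφs] at h1
    rw [h1, ← MonoidHom.range_eq_map]
    exact MonoidHom.range_eq_top.2 hφs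
  have h2el : ∀ u : G ⧸ K, (∃ n : ℕ, u ^ 2 ^ n = 1) → u ∈ M := by
    rintro u ⟨n, hn⟩
    have h1 : u ∈ M ⊔ (T : Subgroup G).map φ := by rw [hMT']; trivial
    obtain ⟨a, ha, t, ht, hat⟩ := Subgroup.mem_sup_of_normal_left.1 h1
    obtain ⟨k, hk⟩ := (T.isPGroup'.map φ) ⟨t, ht⟩
    have hk' : t ^ 3 ^ k = 1 := congrArg Subtype.val hk
    have h4 : QuotientGroup.mk' M u = QuotientGroup.mk' M t := by
      rw [← hat, map_mul]
      have : QuotientGroup.mk' M a = 1 := (QuotientGroup.eq_one_iff a).2 ha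
      rw [this, one_mul]
    have h5 : QuotientGroup.mk' M u = 1 := by
      refine eq_one_of_three_of_two (n := k) (m := n) ?_ ?_
      · rw [h4, ← map_pow, hk', map_one]
      · rw [← map_pow, hn, map_one]
    exact (QuotientGroup.eq_one_iff u).1 h5
  refine abTwo_of_normal M h2el ?_
  by_cases h3M : 3 ∣ Nat.card M
  · exact abTwo_minimal hfK M hM1 hmin h2M h3M
  -- `M` is a `3'`-group: `T` normalizes a Sylow 2-subgroup of `M`
  obtain ⟨S⟩ : Nonempty (Sylow 2 M) := inferInstance
  set S0 : Subgroup (G ⧸ K) := (S : Subgroup M).map M.subtype with hS0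
  have hS0M : S0 ≤ M := Subgroup.map_subtype_le _
  have hS02 : IsPGroup 2 S0 := S.isPGroup'.map _
  have hcS0 : Nat.card S0 = Nat.card (S : Subgroup M) :=
    Nat.card_congr (((S : Subgroup M).equivMapOfInjective _ M.subtype_injective).toEquiv).symm
  have h2S : 2 ∣ Nat.card S0 := by
    rw [hcS0]
    exact S.dvd_card_of_dvd_card h2M
  have hF : normalizer (S0 : Set (G ⧸ K)) ⊔ M = ⊤ := Sylow.normalizer_sup_eq_top S
  set N := normalizer (S0 : Set (G ⧸ K)) with hN
  have hNi : ¬ 3 ∣ N.index := by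
    intro h
    apply h3M
    have h1 : N.index = N.relIndex M := by
      rw [← Subgroup.relIndex_top_right, ← hF]
      exact Lib.SylowNormalInf.relIndex_sup_of_normal N M
    rw [h1] at h
    refine h.trans ?_
    rw [Subgroup.relIndex]
    exact Subgroup.index_dvd_card _
  obtain ⟨R, -, hRN, hR3, hRi⟩ := exists_sylow_in (p := 3) (N := N) (D := ⊥) bot_le
    (IsPGroup.of_bot)
  have hRi' : ¬ 3 ∣ R.index := by
    rw [← Subgroup.relIndex_mul_index hRN, Nat.prime_three.dvd_mul]
    tauto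
  let R' : Sylow 3 (G ⧸ K) := hR3.toSylow hRi'
  obtain ⟨g, hg⟩ := MulAction.exists_smul_eq (G ⧸ K) R' (T.mapSurjective hφs)
  set S1 : Subgroup (G ⧸ K) := S0.map (MulAut.conj g).toMonoidHom with hS1
  have hTle : (T : Subgroup G) ≤ (normalizer (S1 : Set (G ⧸ K))).comap φ := by
    rw [← Subgroup.map_le_iff_le_comap, ← Sylow.coe_mapSurjective hφs T, ← hg, hS1,
      ← map_conj_normalizer]
    exact Subgroup.map_mono hRN
  have hS1M : S1 ≤ M := by
    rintro _ ⟨x, hx, rfl⟩
    exact hMn.conj_mem x (hS0M hx) g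
  have h2S1 : 2 ∣ Nat.card S1 := by
    rw [hS1, card_map_conj]
    exact h2S
  have htop : (normalizer (S1 : Set (G ⧸ K))).comap φ = ⊤ := by
    by_contra hcon
    refine hodd _ hTle hcon ?_
    exact (h2S1.trans (Subgroup.card_dvd_of_le le_normalizer)).trans (hcomap _)
  have hS1n : S1.Normal := by
    rw [← normalizer_eq_top_iff, ← Subgroup.map_comap_eq_self_of_surjective hφs
      (normalizer (S1 : Set (G ⧸ K))), htop, ← MonoidHom.range_eq_map]
    exact MonoidHom.range_eq_top.2 hφs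
  have hS1eq : S1 = M := by
    rcases hmin S1 hS1n hS1M with h | h
    · rw [h, Subgroup.card_bot] at h2S1
      omega
    · exact h
  have hM2 : IsPGroup 2 M := by
    rw [← hS1eq]
    exact hS02.map _
  exact abTwo_minimal_two M hM1 hmin hM2

/-- The core configuration. -/
theorem core {G : Type u} [Group G] [Finite G] (T : Sylow 3 G)
    (hover : ∀ H : Subgroup G, (T : Subgroup G) ≤ H → H ≠ ⊤ → Free H)
    (hGQ : Free (G ⧸ pCore 3 G)) (hD : pPrimeCore 3 G = ⊥)
    (hT : Free (normalizer (centerThompsonAOf (T : Subgroup G) : Set G))) : Free G := by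
  haveI : Fact (Nat.Prime 2) := ⟨Nat.prime_two⟩
  haveI : Fact (Nat.Prime 3) := ⟨Nat.prime_three⟩
  by_contra hnf'
  have hnf : ¬ Free G := fun h => h hnf'
  set Q := pCore 3 G with hQ
  haveI hQn : Q.Normal := Lib.Cores.pCore_normal 3
  have hQ3 : IsPGroup 3 Q := Lib.Cores.pCore_isPGroup 3
  have hQT : Q ≤ (T : Subgroup G) := Lib.Cores.pCore_le_sylow T
  set C := centralizer (Q : Set G) with hC
  haveI hCn : C.Normal := by rw [hC]; infer_instance
  -- `T ∩ C ≤ Q`
  have hTC : (T : Subgroup G) ⊓ C ≤ Q := by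
    by_contra hcon
    apply hnf
    set X : Subgroup G := (T : Subgroup G) ⊓ C with hX
    have hTN : (T : Subgroup G) ≤ normalizer (X : Set G) := by
      rw [hX]
      refine le_trans ?_ (inf_normalizer_le_normalizer_inf)
      refine le_inf le_normalizer ?_
      rw [normalizer_eq_top]
      exact le_top
    have hNtop : normalizer (X : Set G) ≠ ⊤ := by
      intro h
      exact hcon (Lib.Cores.le_pCore (normalizer_eq_top_iff.1 h) (T.isPGroup'.to_le inf_le_left))
    have hNf := hover _ hTN hNtop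
    have hFr : normalizer (X : Set G) ⊔ C = ⊤ := Lib.SylowNormalInf.normalizer_inf_sup_eq_top T C
    refine free_of_centralizes Q hGQ ?_
    intro u hu x hx
    obtain ⟨n, hn, ⟨k, hk⟩, hnu⟩ := exists_two_elt C (normalizer (X : Set G)) hFr hu
    have hQN : Q ≤ normalizer (X : Set G) := hQT.trans hTN
    have h1 := RealThree.centralizes hNf (Q := Q.subgroupOf (normalizer (X : Set G)))
      (hQ3.comap_of_injective _ (Subgroup.subtype_injective _)) (u := ⟨n, hn⟩)
      ⟨k, Subtype.ext hk⟩ (mem_normalizer_of_normal _ _) ⟨x, hQN hx⟩ (by simpa [mem_subgroupOf] using hx)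
    have h2 : n * x = x * n := congrArg Subtype.val h1
    have h3 : x * (n⁻¹ * u) = (n⁻¹ * u) * x := (mem_centralizer_iff.1 hnu) x hx
    have h4 : u = n * (n⁻¹ * u) := by group
    rw [h4, mul_assoc, ← h3, ← mul_assoc, h2, mul_assoc]
  -- `C ≤ Q`
  have hCQ : C ≤ Q := by
    have h1 : C ≤ C ⊓ Q := by
      refine Constrained.eq_of_central_of_coprime (p := 3) hD hCn (hQ3.to_le inf_le_right)
        inf_le_left ?_ ?_
      · intro z hz y hy
        exact (mem_centralizer_iff.mp hy) z hz.2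
      · have e1 : (C ⊓ Q).relIndex C = (T : Subgroup G).relIndex C := by
          rw [← inf_relIndex_right (T : Subgroup G) C]
          congr 1
          apply le_antisymm
          · exact le_inf (inf_le_right.trans hQT) inf_le_left
          · exact le_inf inf_le_right hTC
        rw [e1]
        exact ((Nat.Prime.coprime_iff_not_dvd Nat.prime_three).2
          (Lib.SylowNormalInf.not_dvd_relIndex T C)).symm
    exact h1.trans inf_le_right
  -- proper overgroups of `T` have odd order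
  have hodd : ∀ H : Subgroup G, (T : Subgroup G) ≤ H → H ≠ ⊤ → ¬ 2 ∣ Nat.card H := by
    intro H hTH hH h2
    obtain ⟨u, hu⟩ := exists_prime_orderOf_dvd_card' 2 h2
    have huu : u ^ 2 ^ 1 = 1 := by
      rw [pow_one, ← hu]
      exact pow_orderOf_eq_one u
    have hHf := hover H hTH hH
    have h1 := RealThree.centralizes hHf (Q := Q.subgroupOf H)
      (hQ3.comap_of_injective _ (Subgroup.subtype_injective _)) (u := u) ⟨1, huu⟩
      (mem_normalizer_of_normal _ _)
    have h3 : (u : G) ∈ C := by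
      rw [hC, mem_centralizer_iff]
      intro x hx
      exact (congrArg Subtype.val (h1 ⟨x, hTH (hQT hx)⟩ (by simpa [mem_subgroupOf] using hx))).symm
    have h4 : (u : G) ∈ Q := hCQ h3
    obtain ⟨k, hk⟩ := hQ3 ⟨u, h4⟩
    have hk' : (u : G) ^ 3 ^ k = 1 := congrArg Subtype.val hk
    have h5 : (u : G) = 1 := eq_one_of_three_of_two hk' (m := 1) (congrArg Subtype.val huu)
    have h6 : u = 1 := Subtype.ext h5
    rw [h6, orderOf_one] at hu
    omega
  have h2G : 2 ∣ Nat.card G := by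
    have h1 := TIFree.card_dvd_of_involves hnf'
    refine Dvd.dvd.trans ?_ h1
    rw [Nat.card_eq_fintype_card, Fintype.card_perm, Fintype.card_fin]
    decide
  have hab : AbTwo G := abTwo_of_over T hodd hQ3 hGQ h2G
  have hqd : ¬ Lib.Involves.Involves G ↥(Cfsg.qd 3) := not_involves_qd hab (by norm_num)
  have hZ := Cfsg.Agent.S0664.result (G := G) (p := 3) (by norm_num)
    (fun h => hqd (Lib.Involves.involves_iff.2 h)) hCQ T
  rw [normalizer_eq_top_iff.2 hZ] at hT
  exact hnf hT.top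

/-- **Theorem A**: if `S₃` is not involved in the normalizer of `Z(J(T))`, `T` a Sylow 3-subgroup, then `S₃` is not
involved in `G`. -/
theorem good_all : ∀ (n : ℕ) (G : Type u) [Group G] [Finite G], Nat.card G = n → Good G := by
  intro n
  induction n using Nat.strong_induction_on with
  | _ n ih =>
    intro G _ _ hn T hT
    haveI : Fact (Nat.Prime 3) := ⟨Nat.prime_three⟩
    have hgood : ∀ H : Subgroup G, H ≠ ⊤ → Good H := by
      intro H hH
      refine ih (Nat.card H) ?_ H rfl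
      rw [← hn]
      refine lt_of_le_of_ne (Subgroup.card_le_card_group H) ?_
      intro h
      exact hH (Subgroup.eq_top_of_card_eq H h)
    have hgoodq : ∀ K : Subgroup G, [K.Normal] → K ≠ ⊥ → Good (G ⧸ K) := by
      intro K _ hK
      refine ih (Nat.card (G ⧸ K)) ?_ (G ⧸ K) rfl
      rw [← hn, Subgroup.card_eq_card_quotient_mul_card_subgroup K]
      have h1 : 1 < Nat.card K := by
        rw [Subgroup.one_lt_card_iff_ne_bot]
        exact hK
      have h2 : 0 < Nat.card (G ⧸ K) := Nat.card_pos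
      nlinarith
    by_cases hQ1 : pCore 3 G = ⊥
    · exact of_pCore_eq_bot hgood T hT hQ1
    haveI hDn : (pPrimeCore 3 G).Normal := Lib.Cores.pPrimeCore_normal 3
    by_cases hD : pPrimeCore 3 G = ⊥
    · haveI hQn : (pCore 3 G).Normal := Lib.Cores.pCore_normal 3
      have hover : ∀ H : Subgroup G, (T : Subgroup G) ≤ H → H ≠ ⊤ → Free H := by
        intro H hTH hH
        refine sub (hgood H hH) hTH T.isPGroup' ?_ hT
        intro h
        exact T.not_dvd_index (h.trans (Subgroup.relIndex_dvd_index_of_le hTH))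
      exact core T hover (quotient_free (Lib.Cores.pCore_isPGroup 3) le_rfl (hgoodq _ hQ1) T hover)
        hD hT
    · exact of_pPrimeCore (Lib.Cores.pPrimeCore_coprime 3) (hgoodq _ hD) T hT

theorem main {G : Type u} [Group G] [Finite G] (T : Sylow 3 G)
    (h : ¬ Lib.Involves.Involves (normalizer (centerThompsonAOf (T : Subgroup G) : Set G))
      (Equiv.Perm (Fin 3))) :
    ¬ Lib.Involves.Involves G (Equiv.Perm (Fin 3)) :=
  good_all (Nat.card G) G rfl T h

end Cfsg.Agent.H211.ThmA
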